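import Groth.Prelude.Def_W4stktopologysheavesBas
import Mathlib

/-!
# Sheaves on a basis
-/

set_option autoImplicit false

universe u

namespace Groth.ShBasis

open TopologicalSpace Opposite CategoryTheory

variable {X : Type u} [TopologicalSpace X] {B : Set (Opens X)} {F : ShB.Pre B}

theorem res_res {U V W : B} (h₁ : (V : Opens X) ≤ U) (h₂ : (W : Opens X) ≤ V) (s : F.obj U) :
    F.res h₂ (F.res h₁ s) = F.res (h₂.trans h₁) s := F.res_comp h₁ h₂ s

theorem exists_mem (hB : Opens.IsBasis B) {x : X} {O : Opens X} (hx : x ∈ O) :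
    ∃ W : B, x ∈ (W : Opens X) ∧ (W : Opens X) ≤ O := by
  obtain ⟨W, hW, hxW, hle⟩ := Opens.isBasis_iff_nbhd.mp hB hx
  exact ⟨⟨W, hW⟩, hxW, hle⟩

/-- Gluing for families indexed arbitrarily. -/
theorem existsUnique_glue (hF : ShB.IsSheaf F) {U : B} {ι : Type u} (V : ι → B)
    (hV : ∀ i, (V i : Opens X) ≤ U) (hcov : (U : Opens X) ≤ ⨆ i, (V i : Opens X))
    (s : ∀ i, F.obj (V i))
    (hs : ∀ i j, ∀ x ∈ (V i : Opens X) ⊓ (V j : Opens X),
      ∃ (W : B) (hi : (W : Opens X) ≤ V i) (hj : (W : Opens X) ≤ V j),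
        x ∈ (W : Opens X) ∧ F.res hi (s i) = F.res hj (s j)) :
    ∃! t : F.obj U, ∀ i, F.res (hV i) t = s i := by
  let κ : ι → ι → Type u := fun i j =>
    { W : B // ∃ (hi : (W : Opens X) ≤ V i) (hj : (W : Opens X) ≤ V j),
      F.res hi (s i) = F.res hj (s j) }
  exact hF
    { U := U, ι := ι, V := V, V_le := hV, V_cover := hcov, κ := κ, W := fun i j k => k.1
      W_le_left := fun i j k => k.2.choose
      W_le_right := fun i j k => k.2.choose_spec.choose
      W_cover := fun i j x hx => by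
        obtain ⟨W, hi, hj, hxW, e⟩ := hs i j x hx
        exact Opens.mem_iSup.mpr ⟨⟨W, hi, hj, e⟩, hxW⟩ }
    s fun i j k => k.2.choose_spec.choose_spec

theorem eq_of_locally (hB : Opens.IsBasis B) (hF : ShB.IsSheaf F) {U : B} (t t' : F.obj U)
    (h : ∀ x ∈ (U : Opens X), ∃ (W : B) (hW : (W : Opens X) ≤ U),
      x ∈ (W : Opens X) ∧ F.res hW t = F.res hW t') : t = t' := by
  choose W hW hxW e using h
  -- the common refinement
  let κ : ↥(U : Opens X) → ↥(U : Opens X) → Type u := fun i j =>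
    { O : B // (O : Opens X) ≤ W i.1 i.2 ∧ (O : Opens X) ≤ W j.1 j.2 }
  obtain ⟨r, -, hr⟩ := hF
    { U := U, ι := (U : Opens X), V := fun x => W x.1 x.2, V_le := fun x => hW x.1 x.2
      V_cover := fun x hx => Opens.mem_iSup.mpr ⟨⟨x, hx⟩, hxW x hx⟩
      κ := κ, W := fun i j k => k.1
      W_le_left := fun i j k => k.2.1
      W_le_right := fun i j k => k.2.2
      W_cover := fun i j x hx => by
        obtain ⟨O, hxO, hO⟩ := exists_mem hB hx
        exact Opens.mem_iSup.mpr ⟨⟨O, hO.trans inf_le_left, hO.trans inf_le_right⟩, hxO⟩ }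
    (fun x => F.res (hW x.1 x.2) t) (fun i j k => by rw [res_res, res_res])
  exact (hr t fun x => rfl).trans (hr t' fun x => (e x.1 x.2).symm).symm

theorem relEquivalence (hB : Opens.IsBasis B) (F : ShB.Pre B) (x : X) :
    Equivalence (ShB.StalkRel F x) where
  refl a := ⟨a.1.1, a.1.2, le_rfl, le_rfl, rfl⟩
  symm := fun ⟨W, hx, ha, hb, e⟩ => ⟨W, hx, hb, ha, e.symm⟩
  trans := fun {a b c} ⟨W, hx, ha, hb, e⟩ ⟨W', hx', hb', hc, e'⟩ => by
    obtain ⟨O, hxO, hO⟩ := exists_mem hB (show x ∈ (W : Opens X) ⊓ (W' : Opens X) from ⟨hx, hx'⟩)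
    refine ⟨O, hxO, (hO.trans inf_le_left).trans ha, (hO.trans inf_le_right).trans hc, ?_⟩
    have e1 := congrArg (F.res (hO.trans inf_le_left)) e
    have e2 := congrArg (F.res (hO.trans inf_le_right)) e'
    rw [res_res, res_res] at e1 e2
    exact e1.trans e2

theorem germ_eq_iff (hB : Opens.IsBasis B) {U V : B} {x : X} (hU : x ∈ (U : Opens X))
    (hV : x ∈ (V : Opens X)) (s : F.obj U) (t : F.obj V) :
    ShB.germ F x hU s = ShB.germ F x hV t ↔
      ∃ (W : B) (_ : x ∈ (W : Opens X)) (ha : (W : Opens X) ≤ U) (hb : (W : Opens X) ≤ V),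
        F.res ha s = F.res hb t :=
  ⟨fun h => (relEquivalence hB F x).eqvGen_iff.mp (Quot.eqvGen_exact h),
    fun ⟨W, hx, ha, hb, e⟩ => Quot.sound ⟨W, hx, ha, hb, e⟩⟩

theorem germ_res {U V : B} (h : (V : Opens X) ≤ U) {x : X} (hx : x ∈ (V : Opens X)) (s : F.obj U) :
    ShB.germ F x hx (F.res h s) = ShB.germ F x (h hx) s :=
  Quot.sound ⟨V, hx, le_rfl, h, F.res_id V _⟩

theorem germs_injective (hB : Opens.IsBasis B) (hF : ShB.IsSheaf F) (U : B) :
    Function.Injective (fun (s : F.obj U) (x : (U : Opens X)) => ShB.germ F x.1 x.2 s) := by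
  intro s t h
  refine eq_of_locally hB hF s t fun x hx => ?_
  obtain ⟨W, hxW, ha, _hb, e⟩ := (germ_eq_iff hB hx hx s t).mp (congrFun h ⟨x, hx⟩)
  exact ⟨W, ha, hxW, e⟩

/-- The condition (*) on a family of germs. -/
def Good (F : ShB.Pre B) {O : Opens X} (f : ∀ x : O, ShB.Stalk F x.1) : Prop :=
  ∀ x : O, ∃ (V : B) (_ : x.1 ∈ (V : Opens X)) (hVO : (V : Opens X) ≤ O) (σ : F.obj V),
    ∀ (y : X) (hy : y ∈ (V : Opens X)), ShB.germ F y hy σ = f ⟨y, hVO hy⟩

theorem exists_iff_good (hB : Opens.IsBasis B) (hF : ShB.IsSheaf F) (U : B)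
    (f : ∀ x : (U : Opens X), ShB.Stalk F x.1) :
    (∃ s : F.obj U, ∀ x, ShB.germ F x.1 x.2 s = f x) ↔ Good F f := by
  refine ⟨fun ⟨s, hs⟩ x => ⟨U, x.2, le_rfl, s, fun y hy => hs ⟨y, hy⟩⟩, fun h => ?_⟩
  choose V hxV hVU σ hσ using h
  obtain ⟨t, ht, -⟩ := existsUnique_glue hF V hVU
    (fun x hx => Opens.mem_iSup.mpr ⟨⟨x, hx⟩, hxV ⟨x, hx⟩⟩) σ fun i j y hy => by
      obtain ⟨W, hyW, ha, hb, e⟩ := (germ_eq_iff hB hy.1 hy.2 (σ i) (σ j)).mp
        ((hσ i y hy.1).trans (hσ j y hy.2).symm)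
      exact ⟨W, ha, hb, hyW, e⟩
  refine ⟨t, fun x => ?_⟩
  rw [← hσ x x.1 (hxV x), ← ht x, germ_res]

theorem isSheaf_iff_of_inter (hB : Opens.IsBasis B)
    (hBi : ∀ U ∈ B, ∀ U' ∈ B, ∀ U'' ∈ B, U' ≤ U → U'' ≤ U → U' ⊓ U'' ∈ B)
    (C : ∀ U : B, Set (ShB.Cover B)) (hCU : ∀ U, ∀ c ∈ C U, c.U = U)
    (hC : ∀ (U : B) (ι : Type u) (V : ι → B), (∀ i, (V i : Opens X) ≤ U) →
      (U : Opens X) ≤ ⨆ i, (V i : Opens X) →
      ∃ c ∈ C U, ∀ i' : c.ι, ∃ i, (c.V i' : Opens X) ≤ (V i : Opens X))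
    (hglue : (∀ U, ∀ c ∈ C U, ShB.GluesUniquely F c) → ShB.IsSheaf F) :
    ShB.IsSheaf F ↔ ∀ (U : B), ∀ c ∈ C U, ∀ s : ∀ i, F.obj (c.V i),
      (∀ i j, F.res (U := c.V i) (V := ⟨(c.V i : Opens X) ⊓ c.V j,
          hBi c.U c.U.2 _ (c.V i).2 _ (c.V j).2 (c.V_le i) (c.V_le j)⟩) inf_le_left (s i) =
        F.res (U := c.V j) (V := ⟨(c.V i : Opens X) ⊓ c.V j,
          hBi c.U c.U.2 _ (c.V i).2 _ (c.V j).2 (c.V_le i) (c.V_le j)⟩) inf_le_right (s j)) →
      ∃! t : F.obj c.U, ∀ i, F.res (c.V_le i) t = s i := by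
  constructor
  · intro hF U c _ s hs
    refine hF c s fun i j k => ?_
    have := congrArg (F.res (V := c.W i j k) (le_inf (c.W_le_left i j k) (c.W_le_right i j k))) (hs i j)
    rwa [res_res, res_res] at this
  · intro h
    refine hglue fun U c hc s hs => h U c hc s fun i j => ?_
    set I : B := ⟨(c.V i : Opens X) ⊓ c.V j,
      hBi c.U c.U.2 _ (c.V i).2 _ (c.V j).2 (c.V_le i) (c.V_le j)⟩ with hI
    obtain ⟨d, hd, hσ⟩ := hC I (c.κ i j) (c.W i j)
      (fun k => le_inf (c.W_le_left i j k) (c.W_le_right i j k)) (c.W_cover i j)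
    have e := hCU I d hd
    obtain ⟨r, -, hr⟩ := h I d hd (fun i' => F.res (V := d.V i')
        (((d.V_le i').trans (le_of_eq (congrArg Subtype.val e))).trans inf_le_left) (s i))
      (fun a b => by rw [res_res, res_res])
    have key : ∀ t : F.obj I, (∀ i', F.res (V := d.V i') ((d.V_le i').trans (le_of_eq
          (congrArg Subtype.val e))) t = F.res (V := d.V i')
        (((d.V_le i').trans (le_of_eq (congrArg Subtype.val e))).trans inf_le_left) (s i)) →
        F.res (le_of_eq (congrArg Subtype.val e)) t = r := fun t ht => by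
      refine hr _ fun i' => ?_
      rw [res_res]
      exact ht i'
    have hl := key (F.res inf_le_left (s i)) fun i' => by rw [res_res]
    have hr' := key (F.res inf_le_right (s j)) fun i' => by
      obtain ⟨k, hk⟩ := hσ i'
      rw [res_res]
      have := congrArg (F.res hk) (hs i j k)
      rw [res_res, res_res] at this
      exact this.symm
    have := congrArg (F.res (le_of_eq (congrArg Subtype.val e).symm)) (hl.trans hr'.symm)
    simpa only [res_res] using this

variable (hB : Opens.IsBasis B)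

/-- The extension: good families of germs. -/
def ext (F : ShB.Pre B) (hB : Opens.IsBasis B) : TopCat.Sheaf (Type u) (TopCat.of X) :=
  TopCat.subsheafToTypes (X := TopCat.of X) (T := fun x : TopCat.of X => ShB.Stalk F x)
    { pred := fun {O} f => Good F (O := O) f
      res := fun {U V} i f hf x => by
        obtain ⟨W, hxW, hWV, σ, hσ⟩ := hf ⟨x.1, i.le x.2⟩
        obtain ⟨O, hxO, hO⟩ := exists_mem hB
          (show x.1 ∈ (W : Opens X) ⊓ U from ⟨hxW, x.2⟩)
        exact ⟨O, hxO, hO.trans inf_le_right, F.res (hO.trans inf_le_left) σ,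
          fun y hy => (germ_res _ hy σ).trans (hσ y _)⟩
      locality := fun {U} f hf x => by
        obtain ⟨V, hxV, i, hV⟩ := hf x
        obtain ⟨W, hxW, hWV, σ, hσ⟩ := hV ⟨x.1, hxV⟩
        exact ⟨W, hxW, hWV.trans i.le, σ, fun y hy => hσ y hy⟩ }

/-- The extension agrees with the given sheaf on the basis. -/
noncomputable def extIso (hF : ShB.IsSheaf F) : ShB.Iso (ShB.restrict B (ext F hB).presheaf) F :=
  have hg : ∀ (U : B) (f : (ShB.restrict B (ext F hB).presheaf).obj U),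
      ∃ s : F.obj U, ∀ x, ShB.germ F x.1 x.2 s = f.1 x := fun U f =>
    (exists_iff_good hB hF U f.1).mpr f.2
  { hom :=
      { app := fun U f => (hg U f).choose
        natural := fun {U V} h f => germs_injective hB hF V (funext fun x =>
          ((germ_res h x.2 _).trans ((hg U f).choose_spec ⟨x.1, h x.2⟩)).trans
            ((hg V ((ShB.restrict B (ext F hB).presheaf).res h f)).choose_spec x).symm) }
    inv :=
      { app := fun U s => ⟨fun x => ShB.germ F x.1 x.2 s,
          (exists_iff_good hB hF U _).mp ⟨s, fun _ => rfl⟩⟩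
        natural := fun {U V} h s => Subtype.ext (funext fun x => (germ_res h x.2 s).symm) }
    hom_inv := fun U f => Subtype.ext (funext fun x => (hg U f).choose_spec x)
    inv_hom := fun U s => germs_injective hB hF U (funext fun x => (hg U _).choose_spec x) }

theorem existsUnique_hom (hB : Opens.IsBasis B) (G G' : TopCat.Sheaf (Type u) (TopCat.of X))
    (e : ShB.Iso (ShB.restrict B G.presheaf) F) (e' : ShB.Iso (ShB.restrict B G'.presheaf) F) :
    ∃! φ : G ⟶ G', IsIso φ ∧ ∀ (U : B) (s : G.presheaf.obj (op (U : Opens X))),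
      e'.hom.app U (φ.1.app (op (U : Opens X)) s) = e.hom.app U s := by
  have hr : Opens.IsBasis (Set.range (fun U : B => ((U : Opens X) : Opens (TopCat.of X)))) := by
    rw [Subtype.range_coe]
    exact hB
  have mk : ∀ (G G' : TopCat.Sheaf (Type u) (TopCat.of X))
      (e : ShB.Iso (ShB.restrict B G.presheaf) F) (e' : ShB.Iso (ShB.restrict B G'.presheaf) F),
      ∃ φ : G ⟶ G', ∀ (U : B) (s : G.presheaf.obj (op (U : Opens X))),
        e'.hom.app U (φ.1.app (op (U : Opens X)) s) = e.hom.app U s := by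
    intro G G' e e'
    let α : (inducedFunctor (fun U : B => ((U : Opens X) : Opens (TopCat.of X)))).op ⋙ G.presheaf ⟶
        (inducedFunctor (fun U : B => ((U : Opens X) : Opens (TopCat.of X)))).op ⋙ G'.1 :=
      { app := fun U => ↾fun s => e'.inv.app U.unop (e.hom.app U.unop s)
        naturality := fun U V i => by
          ext s
          have h : Subtype.val (V.unop : B) ≤ Subtype.val (U.unop : B) := i.unop.hom.le
          change e'.inv.app V.unop (e.hom.app V.unop ((ShB.restrict B G.presheaf).res h s)) =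
            (ShB.restrict B G'.presheaf).res h (e'.inv.app U.unop (e.hom.app U.unop s))
          exact (congrArg _ (e.hom.natural (U := U.unop) (V := V.unop) h s).symm).trans
            (e'.inv.natural (U := U.unop) (V := V.unop) h _).symm }
    refine ⟨⟨TopCat.Sheaf.restrictHomEquivHom G.presheaf G' hr α⟩, fun U s => ?_⟩
    have := TopCat.Sheaf.extend_hom_app G.presheaf G' hr α U
    refine (congrArg (fun t => e'.hom.app U t) (ConcreteCategory.congr_hom this s)).trans ?_
    exact e'.inv_hom U _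
  have uniq : ∀ (G G' : TopCat.Sheaf (Type u) (TopCat.of X))
      (e : ShB.Iso (ShB.restrict B G.presheaf) F) (e' : ShB.Iso (ShB.restrict B G'.presheaf) F)
      (φ ψ : G ⟶ G'),
      (∀ (U : B) (s : G.presheaf.obj (op (U : Opens X))),
        e'.hom.app U (φ.1.app (op (U : Opens X)) s) = e.hom.app U s) →
      (∀ (U : B) (s : G.presheaf.obj (op (U : Opens X))),
        e'.hom.app U (ψ.1.app (op (U : Opens X)) s) = e.hom.app U s) → φ = ψ := by
    intro G G' e e' φ ψ hφ hψ
    refine CategoryTheory.Sheaf.hom_ext (TopCat.Sheaf.hom_ext G.presheaf G' hr fun U => ?_)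
    ext s
    have := congrArg (e'.inv.app U) ((hφ U s).trans (hψ U s).symm)
    exact (e'.hom_inv U _).symm.trans (this.trans (e'.hom_inv U _))
  obtain ⟨φ, hφ⟩ := mk G G' e e'
  obtain ⟨ψ, hψ⟩ := mk G' G e' e
  refine ⟨φ, ⟨⟨ψ, ?_, ?_⟩, hφ⟩, fun χ hχ => uniq G G' e e' χ φ hχ.2 hφ⟩
  · exact uniq G G e e _ _ (fun U s => (hψ U _).trans (hφ U s)) fun U s => rfl
  · exact uniq G' G' e' e' _ _ (fun U s => (hφ U _).trans (hψ U s)) fun U s => rfl

end Groth.ShBasis
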